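import Groth.Agent.L08.HomSpace.Orbit
import Groth.Agent.L08.MonoClosed
import Groth.Agent.L18.MulMap
import Groth.Agent.L24.Mono.Over
import Groth.Agent.L25.Actions
import Mathlib.AlgebraicGeometry.Morphisms.ClosedImmersion

/-!
# Quotients of affine algebraic groups by closed subgroups
-/

set_option autoImplicit false
set_option backward.isDefEq.respectTransparency.types false

universe u

open CategoryTheory CategoryTheory.Limits MonoidalCategory CartesianMonoidalCategory MonObj AlgebraicGeometry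
open TensorProduct WithConv

noncomputable section

namespace Groth.L08.HomSpace

variable {k : Type u} [Field k]

/-- `Spec R` over `k` -/
abbrev specOf (k R : Type u) [Field k] [CommRing R] [Algebra k R] : Over (Spec (CommRingCat.of k)) :=
  (Spec (CommRingCat.of R)).asOver (Spec (CommRingCat.of k))

/-- a morphism through a monomorphism can be found on an affine cover -/
theorem exists_lift_of_cover_mono {T N G : Over (Spec (CommRingCat.of k))} (i : N ⟶ G) [Mono i.left] (w : T ⟶ G)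
    (h : ∀ (R : Type u) [CommRing R] [Algebra k R] (t : specOf k R ⟶ T), ∃ z, z ≫ i = t ≫ w) :
    ∃ z, z ≫ i = w := by
  let 𝒰 := T.left.affineOpenCover
  have hloc : ∀ j, ∃ z : 𝒰.openCover.X j ⟶ N.left, z ≫ i.left = 𝒰.openCover.f j ≫ w.left := by
    intro j
    letI : Algebra k (𝒰.X j) := (Spec.preimage (𝒰.f j ≫ T.hom)).hom.toAlgebra
    let t : specOf k (𝒰.X j) ⟶ T := Over.homMk (𝒰.f j) (Spec.map_preimage _).symm
    obtain ⟨z, hz⟩ := h (𝒰.X j) t
    exact ⟨z.left, congrArg CommaMorphism.left hz⟩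
  choose z hz using hloc
  let Z := 𝒰.openCover.glueMorphisms z fun a b => by
    rw [← cancel_mono i.left, Category.assoc, Category.assoc, hz, hz, pullback.condition_assoc]
  have hZ : Z ≫ i.left = w.left := Scheme.Cover.hom_ext 𝒰.openCover _ _ fun a => by
    rw [Scheme.Cover.ι_glueMorphisms_assoc, hz]
  exact ⟨Over.homMk Z (by rw [← Over.w i, reassoc_of% hZ, Over.w]), Over.OverMorphism.ext hZ⟩

/-- morphisms agree if they agree on affine test objects -/
theorem hom_ext_affine {T P : Over (Spec (CommRingCat.of k))} (x y : T ⟶ P)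
    (h : ∀ (R : Type u) [CommRing R] [Algebra k R] (t : specOf k R ⟶ T), t ≫ x = t ≫ y) : x = y := by
  let 𝒰 := T.left.affineOpenCover
  refine Over.OverMorphism.ext (Scheme.Cover.hom_ext 𝒰.openCover _ _ fun j => ?_)
  letI : Algebra k (𝒰.X j) := (Spec.preimage (𝒰.f j ≫ T.hom)).hom.toAlgebra
  let t : specOf k (𝒰.X j) ⟶ T := Over.homMk (𝒰.f j) (Spec.map_preimage _).symm
  exact congrArg CommaMorphism.left (h (𝒰.X j) t)

/-- The ideal of a closed subgroup of an affine group is a Hopf ideal with the expected points. -/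
theorem exists_hopfIdeal {A : Type u} [CommRing A] [HopfAlgebra k A] {H : Over (Spec (CommRingCat.of k))} [GrpObj H]
    (i : H ⟶ specOf k A) [IsMonHom i] [IsClosedImmersion i.left] :
    ∃ I : Ideal A, I.IsHopfIdeal k ∧ ∀ (R : Type u) [CommRing R] [Algebra k R] (g : WithConv (A →ₐ[k] R)),
      (∃ z : specOf k R ⟶ H, z ≫ i = Spec.mapMulEquiv g) ↔ ∀ a ∈ I, g.ofConv a = 0 := by
  obtain ⟨I, e, he⟩ := (IsClosedImmersion.Spec_iff (R := CommRingCat.of A) (f := i.left)).1 ‹_›
  haveI : Mono i := Over.mono_of_mono_left i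
  have hpts : ∀ (R : Type u) [CommRing R] [Algebra k R] (g : WithConv (A →ₐ[k] R)),
      (∃ z : specOf k R ⟶ H, z ≫ i = Spec.mapMulEquiv g) ↔ ∀ a ∈ I, g.ofConv a = 0 := by
    intro R _ _ g
    constructor
    · rintro ⟨z, hz⟩ a ha
      have h1 : Spec.map (CommRingCat.ofHom g.ofConv.toRingHom) =
          (z.left ≫ e.hom) ≫ Spec.map (CommRingCat.ofHom (Ideal.Quotient.mk I)) := by
        rw [Category.assoc, ← he]
        exact (congrArg CommaMorphism.left hz).symm
      obtain ⟨l, hl⟩ := Spec.map_surjective (z.left ≫ e.hom :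
        Spec (CommRingCat.of R) ⟶ Spec (CommRingCat.of (A ⧸ I)))
      replace h1 := h1.trans ((congrArg (· ≫ Spec.map (CommRingCat.ofHom (Ideal.Quotient.mk I))) hl.symm).trans
        (Spec.map_comp _ _).symm)
      have h2 := congr($(congrArg CommRingCat.Hom.hom (Spec.map_injective h1)) a)
      simp only [CommRingCat.hom_comp, RingHom.comp_apply, CommRingCat.hom_ofHom] at h2
      rw [Ideal.Quotient.eq_zero_iff_mem.2 ha, map_zero] at h2
      exact h2
    · intro hg
      let l : CommRingCat.of (A ⧸ I) ⟶ CommRingCat.of R := CommRingCat.ofHom (Ideal.Quotient.lift I g.ofConv.toRingHom hg)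
      have hl : (Spec.map l ≫ e.inv) ≫ i.left = Spec.map (CommRingCat.ofHom g.ofConv.toRingHom) := by
        rw [he, Category.assoc]
        refine (congrArg (Spec.map l ≫ ·) (e.inv_hom_id_assoc _)).trans ?_
        refine (Spec.map_comp _ _).symm.trans ?_
        rfl
      exact ⟨Over.homMk (Spec.map l ≫ e.inv) (by
        rw [← Over.w i, ← Category.assoc]
        exact (congrArg (· ≫ (specOf k A).hom) hl).trans (Over.w (Spec.mapMulEquiv g))), Over.OverMorphism.ext hl⟩
  refine ⟨I, ?_, hpts⟩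
  refine isHopfIdeal_of_represents (P := fun R _ _ g => ∃ z : specOf k R ⟶ H, z ≫ i = Spec.mapMulEquiv (toConv g))
    (fun R _ _ g => (hpts R (toConv g)).symm) (fun R _ _ => ⟨1, by rw [one_comp]; exact (map_one _).symm⟩) ?_ ?_
  · rintro R _ _ g h ⟨z, hz⟩ ⟨z', hz'⟩
    exact ⟨z * z', by rw [mul_comp, hz, hz']; exact (map_mul _ _ _).symm⟩
  · rintro R _ _ g ⟨z, hz⟩
    refine ⟨z⁻¹, ?_⟩
    rw [GrpObj.inv_comp, hz]
    refine inv_eq_of_mul_eq_one_left ?_
    rw [← map_mul]
    exact (congrArg Spec.mapMulEquiv (pinv_mul g)).trans (map_one _)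

/-- The orbit map: kernel pair `G × H`. -/
theorem exists_orbit_pullback {G H : Over (Spec (CommRingCat.of k))} [GrpObj G] [GrpObj H] [IsAffine G.left]
    [LocallyOfFiniteType G.hom] (i : H ⟶ G) [IsMonHom i] [IsClosedImmersion i.left] :
    ∃ (n : ℕ) (o : G ⟶ Over.mk (CohB1.ProjSpace.toSpec n k)),
      IsPullback (fst G H) ((G ◁ i) ≫ μ[G]) o o := by
  obtain ⟨H₀, ⟨eG⟩⟩ := (essImage_hopfSpec (G := Grp.mk G)).mpr ‹IsAffine G.left›
  let A := H₀.unop
  let φ : specOf k A ⟶ G := eG.hom.hom.hom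
  let ψ : G ⟶ specOf k A := eG.inv.hom.hom
  have h1 : φ ≫ ψ = 𝟙 _ := congrArg (fun f => f.hom.hom) eG.hom_inv_id
  have h2 : ψ ≫ φ = 𝟙 G := congrArg (fun f => f.hom.hom) eG.inv_hom_id
  haveI : IsMonHom φ := eG.hom.hom.isMonHom_hom
  haveI : IsMonHom ψ := eG.inv.hom.isMonHom_hom
  haveI : IsIso φ := ⟨ψ, h1, h2⟩
  haveI : IsIso ψ := ⟨φ, h2, h1⟩
  haveI : IsIso ψ.left := inferInstanceAs (IsIso ((Over.forget _).map ψ))
  haveI : IsIso φ.left := inferInstanceAs (IsIso ((Over.forget _).map φ))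
  haveI hft : LocallyOfFiniteType (specOf k A).hom := by rw [← Over.w φ]; infer_instance
  haveI : Algebra.FiniteType k A := by
    change LocallyOfFiniteType (Spec.map (CommRingCat.ofHom (algebraMap k A))) at hft
    rwa [HasRingHomProperty.Spec_iff (P := @LocallyOfFiniteType), CommRingCat.hom_ofHom,
      RingHom.finiteType_algebraMap] at hft
  let i' : H ⟶ specOf k A := i ≫ ψ
  haveI : IsMonHom i' := inferInstanceAs (IsMonHom (i ≫ ψ))
  haveI : IsClosedImmersion i'.left := inferInstanceAs (IsClosedImmersion (i.left ≫ ψ.left))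
  obtain ⟨I, hI, hpts⟩ := exists_hopfIdeal i'
  obtain ⟨V, _, _, _, hfin, v, hv, hrep⟩ := Chevalley.exists_line (k := k) I
  obtain ⟨n, o₀, ho₀⟩ := exists_orbit v hfin hv I hrep
  refine ⟨n, ψ ≫ o₀, ?_⟩
  haveI : Mono i' := Over.mono_of_mono_left i'
  haveI : Mono i.left := inferInstance
  haveI : Mono i := Over.mono_of_mono_left i
  -- the criterion
  have key : ∀ {T : Over (Spec (CommRingCat.of k))} (x y : T ⟶ G),
      x ≫ ψ ≫ o₀ = y ≫ ψ ≫ o₀ ↔ ∃ z : T ⟶ H, z ≫ i = x⁻¹ * y := by
    intro T x y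
    have hR : ∀ (R : Type u) [CommRing R] [Algebra k R] (t : specOf k R ⟶ T),
        (t ≫ x ≫ ψ ≫ o₀ = t ≫ y ≫ ψ ≫ o₀) ↔ ∃ z, z ≫ i = t ≫ (x⁻¹ * y) := by
      intro R _ _ t
      obtain ⟨g, hg⟩ := (Spec.mapMulEquiv (R := k) (S := A) (T := R)).surjective (t ≫ x ≫ ψ)
      obtain ⟨h, hh⟩ := (Spec.mapMulEquiv (R := k) (S := A) (T := R)).surjective (t ≫ y ≫ ψ)
      have hx : t ≫ x ≫ ψ ≫ o₀ = Spec.mapMulEquiv g ≫ o₀ := by rw [hg]; simp only [Category.assoc]
      have hy : t ≫ y ≫ ψ ≫ o₀ = Spec.mapMulEquiv h ≫ o₀ := by rw [hh]; simp only [Category.assoc]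
      have hgi : Spec.mapMulEquiv (pinv g) = (Spec.mapMulEquiv g)⁻¹ :=
        (inv_eq_of_mul_eq_one_left (((map_mul _ _ _).symm.trans (congrArg _ (pinv_mul g))).trans (map_one _))).symm
      have hgh : Spec.mapMulEquiv (pinv g * h) = (t ≫ (x⁻¹ * y)) ≫ ψ := by
        rw [map_mul, hgi, hg, hh, MonObj.comp_mul, GrpObj.comp_inv, mul_comp, GrpObj.inv_comp, Category.assoc,
          Category.assoc]
      rw [hx, hy, ho₀ R g h, ← hpts R (pinv g * h), hgh]
      refine exists_congr fun z => ?_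
      rw [show i' = i ≫ ψ from rfl, ← Category.assoc, cancel_mono]
    constructor
    · intro e
      exact exists_lift_of_cover_mono i _ fun R _ _ t => (hR R t).1 (by rw [e])
    · rintro ⟨z, hz⟩
      exact hom_ext_affine _ _ fun R _ _ t => (hR R t).2 ⟨t ≫ z, by rw [Category.assoc, hz]⟩
  have hmul : ∀ {T : Over (Spec (CommRingCat.of k))} (g : T ⟶ G) (h : T ⟶ H),
      lift g h ≫ (G ◁ i) ≫ μ[G] = g * (h ≫ i) := fun g h => by rw [lift_whiskerLeft_assoc, Hom.mul_def]
  refine IsPullback.mk' ?_ (fun T φ' ψ' e₁ e₂ => ?_) (fun T x y e => ?_)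
  · refine (key _ _).2 ⟨snd G H, ?_⟩
    have e := hmul (fst G H) (snd G H)
    rw [lift_fst_snd, Category.id_comp] at e
    rw [e, inv_mul_cancel_left]
  · have e₁' : ∀ χ : T ⟶ G ⊗ H, χ ≫ (G ◁ i) ≫ μ[G] = (χ ≫ fst _ _) * ((χ ≫ snd _ _) ≫ i) := fun χ => by
      rw [← hmul, lift_comp_fst_snd]
    rw [e₁', e₁', e₁] at e₂
    refine CartesianMonoidalCategory.hom_ext _ _ e₁ ?_
    exact (cancel_mono i).1 (mul_left_cancel e₂)
  · obtain ⟨z, hz⟩ := (key x y).1 e
    exact ⟨lift x z, lift_fst _ _, by rw [hmul, hz, mul_inv_cancel_left]⟩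

/-- Quotient of an affine algebraic group by a closed subgroup: data, action and cartesian square. -/
theorem exists_quotient {G H : Over (Spec (CommRingCat.of k))} [GrpObj G] [GrpObj H] [IsAffine G.left]
    [LocallyOfFiniteType G.hom] (i : H ⟶ G) [IsMonHom i] [IsClosedImmersion i.left] :
    ∃ (Q : Over (Spec (CommRingCat.of k))) (p : G ⟶ Q) (a : AlgGrp.Action G Q),
      LocallyOfFiniteType Q.hom ∧ QuasiCompact Q.hom ∧ Surjective p.left ∧ Flat p.left ∧
      LocallyOfFinitePresentation p.left ∧ IsPullback (fst G H) ((G ◁ i) ≫ μ[G]) p p ∧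
      a.orbitMap (η[G] ≫ p) = p := by
  obtain ⟨n, o, sq⟩ := exists_orbit_pullback i
  haveI : LocallyOfFiniteType H.hom := by rw [← Over.w i]; infer_instance
  haveI : Flat H.hom := Groth.L25.Translate.flat_of_isField_stalk _ fun x => by
    exact Groth.L25.Translate.isField_stalk_of_maximal fun a _ => by
      rw [Subsingleton.elim (α := PrimeSpectrum k) a (H.hom x)]
  haveI : IsLocallyNoetherian (Spec (CommRingCat.of k)) := inferInstance
  haveI : LocallyOfFinitePresentation G.hom := LocallyOfFinitePresentation.iff_locallyOfFiniteType.2 inferInstance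
  haveI : LocallyOfFiniteType (Over.mk (CohB1.ProjSpace.toSpec n k)).hom :=
    (Groth.L18.PS.isProper_toSpec n k).toLocallyOfFiniteType
  have hfl : Flat (fst G H).left :=
    MorphismProperty.of_isPullback (P := @Flat) (Groth.L25.Actions.isPullback_snd G H).flip ‹_›
  obtain ⟨Q, p, j, hpj, hs, hf, hp, hj, hQ, sqQ⟩ := Groth.L24.MonoFac.exists_factor_over o sq.flip hfl
  haveI := hs; haveI := hf; haveI := hp; haveI := hj; haveI := hQ
  have hker : ∀ {T : Over (Spec (CommRingCat.of k))} (x y : T ⟶ G),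
      x ≫ p = y ≫ p ↔ ∃ z : T ⟶ H, z ≫ i = x⁻¹ * y := by
    intro T x y
    constructor
    · intro e
      refine ⟨sqQ.lift y x e.symm ≫ snd G H, ?_⟩
      have e1 := sqQ.lift_fst y x e.symm
      have e2 := sqQ.lift_snd y x e.symm
      generalize sqQ.lift y x e.symm = l at e1 e2 ⊢
      rw [← lift_comp_fst_snd l, lift_whiskerLeft_assoc, ← Hom.mul_def, e2] at e1
      rw [eq_inv_mul_iff_mul_eq]
      exact e1
    · rintro ⟨z, hz⟩
      have := lift x z ≫= sqQ.w
      simp only [lift_fst_assoc, Category.assoc, lift_whiskerLeft_assoc] at this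
      rw [← Category.assoc, ← Hom.mul_def, hz, mul_inv_cancel_left] at this
      exact this.symm
  haveI : Surjective (G ◁ p).left := Groth.L25.Actions.of_whiskerLeft @Surjective G p hs
  haveI : Flat (G ◁ p).left := Groth.L25.Actions.of_whiskerLeft @Flat G p hf
  haveI : LocallyOfFinitePresentation (G ◁ p).left := Groth.L25.Actions.of_whiskerLeft @LocallyOfFinitePresentation G p hp
  obtain ⟨act, hact, -⟩ := Groth.L25.Actions.existsUnique_desc (G ◁ p) (μ[G] ≫ p) fun Z g₁ g₂ hg => by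
    have e1 : g₁ ≫ fst G G = g₂ ≫ fst G G := by
      have := hg =≫ fst G Q
      simpa using this
    have e2 : (g₁ ≫ snd G G) ≫ p = (g₂ ≫ snd G G) ≫ p := by
      have := hg =≫ snd G Q
      simpa using this
    obtain ⟨z, hz⟩ := (hker _ _).1 e2
    have hm : ∀ g : Z ⟶ G ⊗ G, g ≫ μ[G] = (g ≫ fst G G) * (g ≫ snd G G) := fun g => by
      rw [Hom.mul_def, lift_comp_fst_snd]
    rw [← Category.assoc, ← Category.assoc, hm, hm, e1]
    exact (hker _ _).2 ⟨z, by rw [hz, mul_inv_rev, _root_.mul_assoc, inv_mul_cancel_left]⟩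
  haveI : EffectiveEpi (G ◁ p).left := inferInstance
  have hactp : ∀ {T : Over (Spec (CommRingCat.of k))} (g h : T ⟶ G), lift g (h ≫ p) ≫ act = (g * h) ≫ p := by
    intro T g h
    rw [← lift_whiskerLeft_assoc, hact, ← Category.assoc, Hom.mul_def]
  let a : AlgGrp.Action G Q :=
    { act := act
      one_act := by
        haveI : Surjective (𝟙_ (Over (Spec (CommRingCat.of k))) ◁ p).left := Groth.L25.Actions.of_whiskerLeft @Surjective _ p hs
        haveI : Flat (𝟙_ (Over (Spec (CommRingCat.of k))) ◁ p).left := Groth.L25.Actions.of_whiskerLeft @Flat _ p hf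
        haveI : LocallyOfFinitePresentation (𝟙_ (Over (Spec (CommRingCat.of k))) ◁ p).left :=
          Groth.L25.Actions.of_whiskerLeft @LocallyOfFinitePresentation _ p hp
        haveI : Epi (𝟙_ (Over (Spec (CommRingCat.of k))) ◁ p) := Over.epi_of_epi_left _
        rw [← cancel_epi (𝟙_ _ ◁ p), ← Category.assoc]
        rw [show (𝟙_ (Over (Spec (CommRingCat.of k))) ◁ p) ≫ η[G] ▷ Q = lift (fst _ _ ≫ η[G]) (snd _ _ ≫ p) by
          apply CartesianMonoidalCategory.hom_ext <;>
            simp only [Category.assoc, whiskerRight_fst, whiskerRight_snd, whiskerLeft_fst_assoc, whiskerLeft_snd,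
              lift_fst, lift_snd]]
        rw [hactp, toUnit_unique (fst _ _) (toUnit _), ← Hom.one_def, _root_.one_mul, leftUnitor_hom, whiskerLeft_snd]
      mul_act := by
        haveI : Surjective ((G ⊗ G) ◁ p).left := Groth.L25.Actions.of_whiskerLeft @Surjective _ p hs
        haveI : Flat ((G ⊗ G) ◁ p).left := Groth.L25.Actions.of_whiskerLeft @Flat _ p hf
        haveI : LocallyOfFinitePresentation ((G ⊗ G) ◁ p).left :=
          Groth.L25.Actions.of_whiskerLeft @LocallyOfFinitePresentation _ p hp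
        haveI : Epi ((G ⊗ G) ◁ p) := Over.epi_of_epi_left _
        rw [← cancel_epi ((G ⊗ G) ◁ p)]
        have l : ((G ⊗ G) ◁ p) ≫ (μ[G] ▷ Q) =
            lift ((fst (G ⊗ G) G ≫ fst G G) * (fst (G ⊗ G) G ≫ snd G G)) (snd (G ⊗ G) G ≫ p) := by
          apply CartesianMonoidalCategory.hom_ext
          · rw [Category.assoc, whiskerRight_fst, whiskerLeft_fst_assoc, lift_fst, Hom.mul_def, ← comp_lift_assoc,
              lift_fst_snd, Category.id_comp]
          · simp
        have r : ((G ⊗ G) ◁ p) ≫ (α_ G G Q).hom =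
            lift (fst (G ⊗ G) G ≫ fst G G) (lift (fst (G ⊗ G) G ≫ snd G G) (snd (G ⊗ G) G ≫ p)) := by
          apply CartesianMonoidalCategory.hom_ext
          · simp
          · apply CartesianMonoidalCategory.hom_ext <;> simp
        rw [reassoc_of% l, reassoc_of% r, hactp, lift_whiskerLeft_assoc, hactp, hactp, _root_.mul_assoc] }
  refine ⟨Q, p, a, inferInstance, ?_, hs, hf, hp, sqQ.flip, ?_⟩
  · haveI : QuasiCompact (p.left ≫ Q.hom) := by
      rw [Over.w p]; exact inferInstanceAs (QuasiCompact G.hom)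
    refine (quasiCompact_iff Q.hom).2 fun U hU hU' => ?_
    have h := (QuasiCompact.isCompact_preimage (f := p.left ≫ Q.hom) U hU hU').image p.left.continuous
    rwa [show (p.left ≫ Q.hom).base ⁻¹' U = p.left.base ⁻¹' (Q.hom.base ⁻¹' U) from rfl, Set.image_preimage_eq _ p.left.surjective] at h
  · show lift (𝟙 G) (toUnit G ≫ η[G] ≫ p) ≫ act = p
    rw [← Category.assoc (toUnit G), hactp, ← Hom.one_def, _root_.mul_one, Category.id_comp]

end Groth.L08.HomSpace
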