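import Groth.Agent.L08.Chevalley
import Groth.Agent.L08.Points
import Groth.Agent.L18.ProjSpace
import Mathlib.AlgebraicGeometry.Group.Affine
import Mathlib.LinearAlgebra.TensorProduct.Basis
import Mathlib.RingTheory.HopfAlgebra.Convolution

/-!
# The orbit morphism of a line in a representation of an affine group
-/

set_option autoImplicit false
set_option backward.isDefEq.respectTransparency.types false

universe u

open CategoryTheory CategoryTheory.Limits MonoidalCategory CartesianMonoidalCategory MonObj AlgebraicGeometry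
open TensorProduct WithConv

noncomputable section

namespace Groth.L08.HomSpace

variable {k : Type u} [Field k] {A : Type u} [CommRing A] [HopfAlgebra k A]
  {V : Type u} [AddCommGroup V] [Module k V] [HopfRep.Comod k A V]

local notation "ρ" => HopfRep.Comod.coact (k := k) (A := A)

/-- post-composition of points -/
def post {R S : Type u} [CommRing R] [CommRing S] [Algebra k R] [Algebra k S] (φ : R →ₐ[k] S) :
    WithConv (A →ₐ[k] R) →* WithConv (A →ₐ[k] S) where
  toFun g := toConv (φ.comp g.ofConv)
  map_one' := WithConv.ext (AlgHom.ext fun x => by simp)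
  map_mul' g h := WithConv.ext (AlgHom.comp_convMul_distrib φ g h)

theorem stabilizesLine_iff (v : V) {R : Type u} [CommRing R] [Algebra k R] (g : WithConv (A →ₐ[k] R)) :
    SGA3.StabilizesLine k A v R g.ofConv ↔ ∃ c : R, ptHom V R g (1 ⊗ₜ v) = c • ((1 : R) ⊗ₜ[k] v) := by
  refine exists_congr fun c => ?_
  rw [ptHom_one_tmul, smul_tmul', smul_eq_mul, _root_.mul_one]
  exact ((TensorProduct.comm k V R).injective.eq_iff).symm

variable {σ : Type} [Fintype σ] (b : Module.Basis σ k V) (v : V)

variable (A) in
/-- coordinates of the translate of a vector by the universal point -/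
def coords (i : σ) : A := (b.baseChange A).repr (ptVec V (AlgHom.id k A).toLinearMap v) i

theorem repr_translate {R : Type u} [CommRing R] [Algebra k R] (g : WithConv (A →ₐ[k] R)) (i : σ) :
    (b.baseChange R).repr (ptHom V R g (1 ⊗ₜ v)) i = g.ofConv (coords A b v i) := by
  rw [ptHom_one_tmul, coords]
  simp only [ptVec, LinearMap.comp_apply, LinearEquiv.coe_coe]
  induction (ρ v) with
  | zero => simp
  | add x y hx hy => simp only [map_add, Finsupp.add_apply, hx, hy]
  | tmul x a => simp [Module.Basis.baseChange_repr_tmul]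

theorem repr_one_tmul (R : Type u) [CommRing R] [Algebra k R] (i : σ) :
    (b.baseChange R).repr (1 ⊗ₜ v) i = algebraMap k R (b.repr v i) := by
  simp [Module.Basis.baseChange_repr_tmul, Algebra.algebraMap_eq_smul_one]

theorem span_coords (hv : v ≠ 0) : Ideal.span (Set.range (coords A b v)) = ⊤ := by
  by_contra h
  obtain ⟨m, hm, hle⟩ := Ideal.exists_le_maximal _ h
  haveI := hm
  let g : WithConv (A →ₐ[k] A ⧸ m) := toConv (Ideal.Quotient.mkₐ k m)
  have h0 : ptHom V (A ⧸ m) g (1 ⊗ₜ v) = 0 := (b.baseChange (A ⧸ m)).repr.injective (Finsupp.ext fun i => by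
    rw [repr_translate, map_zero, Finsupp.zero_apply]
    exact Ideal.Quotient.eq_zero_iff_mem.2 (hle (Ideal.subset_span ⟨i, rfl⟩)))
  have h1 : ptHom V (A ⧸ m) (pinv g * g) (1 ⊗ₜ v) = 0 := by rw [map_mul, Module.End.mul_apply, h0, map_zero]
  rw [pinv_mul, map_one, Module.End.one_apply] at h1
  apply hv
  refine b.repr.injective (Finsupp.ext fun i => ?_)
  have h2 := congrArg (fun z => (b.baseChange (A ⧸ m)).repr z i) h1
  simp only [repr_one_tmul, map_zero, Finsupp.zero_apply] at h2
  rw [map_zero, Finsupp.zero_apply]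
  exact (algebraMap k (A ⧸ m)).injective (h2.trans (map_zero _).symm)

/-- translates of a vector are proportional exactly when the quotient stabilises the line -/
theorem smul_iff_stab {R : Type u} [CommRing R] [Algebra k R] (g h : WithConv (A →ₐ[k] R)) :
    (∃ c : R, ∀ i, h.ofConv (coords A b v i) = c * g.ofConv (coords A b v i)) ↔
      SGA3.StabilizesLine k A v R (pinv g * h).ofConv := by
  rw [stabilizesLine_iff]
  refine exists_congr fun c => ⟨fun hc => ?_, fun hc i => ?_⟩
  · have e : ptHom V R h (1 ⊗ₜ v) = c • ptHom V R g (1 ⊗ₜ v) :=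
      (b.baseChange R).repr.injective (Finsupp.ext fun i => by
        rw [map_smul, Finsupp.smul_apply, repr_translate, repr_translate, hc i, smul_eq_mul])
    rw [map_mul, Module.End.mul_apply, e, map_smul, ← Module.End.mul_apply, ← map_mul, pinv_mul, map_one,
      Module.End.one_apply]
  · have e : ptHom V R h (1 ⊗ₜ v) = c • ptHom V R g (1 ⊗ₜ v) := by
      rw [← map_smul, ← hc, ← Module.End.mul_apply, ← map_mul, ← _root_.mul_assoc, mul_pinv, _root_.one_mul]
    rw [← repr_translate, ← repr_translate, e, map_smul, Finsupp.smul_apply, smul_eq_mul]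

/-- a morphism of spectra over the base from an algebra map -/
abbrev specPt {R S : Type u} [CommRing R] [CommRing S] [Algebra k R] [Algebra k S] (φ : R →ₐ[k] S) :
    (Spec (CommRingCat.of S)).asOver (Spec (CommRingCat.of k)) ⟶
      (Spec (CommRingCat.of R)).asOver (Spec (CommRingCat.of k)) :=
  (Spec.map (CommRingCat.ofHom φ.toRingHom)).asOver _

open Groth.L18 CohB1 in
theorem tuplePt_ext {n : ℕ} {R : Type u} [CommRing R] {B : CommRingCat.{u}} {σ σ' : R →+* B}
    {a a' : Fin (n + 1) → B} (hσ : σ = σ') (ha : ∀ j, a j = a' j) {i : Fin (n + 1)} (h : IsUnit (a i))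
    (h' : IsUnit (a' i)) : PS.tuplePt σ a i h = PS.tuplePt σ' a' i h' := by
  subst hσ
  exact PS.tuplePt_congr _ ha i i h h'

open Groth.L18 CohB1 in
/-- The orbit morphism of a line: its kernel pair is cut out by the stabiliser of the line. -/
theorem exists_orbit (hfin : Module.Finite k V) (hv : v ≠ 0) (I : Ideal A)
    (hI : Dyn.Represents k A I (fun R _ _ g => SGA3.StabilizesLine k A v R g)) :
    ∃ (n : ℕ) (o : (Spec (CommRingCat.of A)).asOver (Spec (CommRingCat.of k)) ⟶
        Over.mk (ProjSpace.toSpec n k)),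
      ∀ (R : Type u) [CommRing R] [Algebra k R] (g h : WithConv (A →ₐ[k] R)),
        Spec.mapMulEquiv g ≫ o = Spec.mapMulEquiv h ≫ o ↔ ∀ a ∈ I, (pinv g * h).ofConv a = 0 := by
  classical
  haveI : Nontrivial V := ⟨⟨v, 0, hv⟩⟩
  obtain ⟨n, hn⟩ : ∃ n, Module.finrank k V = n + 1 :=
    Nat.exists_eq_succ_of_ne_zero (Module.finrank_pos (R := k) (M := V)).ne'
  let b : Module.Basis (Fin (n + 1)) k V := Module.finBasisOfFinrankEq k V hn
  let c : Fin (n + 1) → A := coords A b v
  let 𝒰 := Scheme.affineOpenCoverOfSpanRangeEqTop (R := CommRingCat.of A) c (span_coords b v hv)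
  have hu : ∀ i, IsUnit (algebraMap A (Localization.Away (c i)) (c i)) := fun i =>
    IsLocalization.Away.algebraMap_isUnit _
  obtain ⟨φ, hφ⟩ := PS.exists_hom_of_tuples (n := n) (R := k) 𝒰
    (fun i => (algebraMap A (Localization.Away (c i))).comp (algebraMap k A))
    (fun i j => algebraMap A (Localization.Away (c i)) (c j)) (fun i => i) hu (by
      intro i j C f g e
      have e' : f.hom.comp (algebraMap A (Localization.Away (c i))) =
          g.hom.comp (algebraMap A (Localization.Away (c j))) := by
        have := congrArg CommRingCat.Hom.hom (Spec.map_injective (by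
          rw [Spec.map_comp, Spec.map_comp]; exact e :
          Spec.map (CommRingCat.ofHom (algebraMap A (Localization.Away (c i))) ≫ f) =
            Spec.map (CommRingCat.ofHom (algebraMap A (Localization.Away (c j))) ≫ g)))
        exact this
      refine ⟨congrArg (fun x : A →+* C => x.comp (algebraMap k A)) e', 1, fun m => ?_⟩
      rw [_root_.one_mul]
      exact (congr($e' (c m))).symm)
  -- evaluation of `φ` on points
  have heval : ∀ (R : Type u) [CommRing R] [Algebra k R] (g : A →ₐ[k] R) (i : Fin (n + 1))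
      (hi : IsUnit (g (c i))), Spec.map (CommRingCat.ofHom g.toRingHom) ≫ φ =
        PS.tuplePt (B := CommRingCat.of R) (algebraMap k R) (fun j => g (c j)) i hi := by
    intro R _ _ g i hi
    let g' : Localization.Away (c i) →+* R := IsLocalization.Away.lift (c i) (g := g.toRingHom) hi
    have hg' : g'.comp (algebraMap A (Localization.Away (c i))) = g.toRingHom :=
      IsLocalization.Away.lift_comp (c i) hi
    have : CommRingCat.ofHom g.toRingHom =
        CommRingCat.ofHom (algebraMap A (Localization.Away (c i))) ≫ CommRingCat.ofHom g' := by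
      rw [← CommRingCat.ofHom_comp, hg']
    rw [this, Spec.map_comp, Category.assoc]
    refine (congrArg (Spec.map (CommRingCat.ofHom g') ≫ ·) (hφ i)).trans ?_
    refine (PS.SpecMap_tuplePt _ _ (CommRingCat.ofHom g') i _).trans ?_
    have h1 : g'.comp ((algebraMap A (Localization.Away (c i))).comp (algebraMap k A)) = algebraMap k R := by
      rw [← RingHom.comp_assoc, hg']; exact g.comp_algebraMap
    exact tuplePt_ext h1 (fun j => RingHom.congr_fun hg' (c j)) _ _
  have hw : φ ≫ ProjSpace.toSpec n k = Spec.map (CommRingCat.ofHom (algebraMap k A)) := by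
    refine Scheme.Cover.hom_ext 𝒰.openCover _ _ fun i => ?_
    show 𝒰.f i ≫ φ ≫ _ = 𝒰.f i ≫ _
    rw [← Category.assoc, hφ i, PS.tuplePt_toSpec]
    exact Spec.map_comp (CommRingCat.ofHom (algebraMap k A)) (CommRingCat.ofHom (algebraMap A (Localization.Away (c i))))
  refine ⟨n, Over.homMk φ hw, fun R _ _ g h => ?_⟩
  have hleft : ∀ (x : WithConv (A →ₐ[k] R)),
      (Spec.mapMulEquiv x ≫ (Over.homMk φ hw : _ ⟶ Over.mk (ProjSpace.toSpec n k))).left =
        Spec.map (CommRingCat.ofHom x.ofConv.toRingHom) ≫ φ := fun _ => rfl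
  -- localisations on which one coordinate of `g` is invertible
  let r : Fin (n + 1) → R := fun i => g.ofConv (c i)
  have hr : Ideal.span (Set.range r) = ⊤ := by
    have := congrArg (Ideal.map g.ofConv.toRingHom) (span_coords (A := A) b v hv)
    rw [Ideal.map_span, Ideal.map_top, ← Set.range_comp] at this
    exact this
  let L := fun i => IsScalarTower.toAlgHom k R (Localization.Away (r i))
  have hLu : ∀ i, IsUnit ((post (A := A) (L i) g).ofConv (c i)) := fun i =>
    IsLocalization.Away.algebraMap_isUnit (r i)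
  have hloc : ∀ (i) (x : WithConv (A →ₐ[k] R)),
      Spec.map (CommRingCat.ofHom (algebraMap R (Localization.Away (r i)))) ≫
        Spec.map (CommRingCat.ofHom x.ofConv.toRingHom) ≫ φ =
      Spec.map (CommRingCat.ofHom (post (A := A) (L i) x).ofConv.toRingHom) ≫ φ := by
    intro i x
    rw [← Category.assoc, ← Spec.map_comp]
    rfl
  constructor
  · intro e a ha
    have e' := (hleft g).symm.trans ((congrArg CommaMorphism.left e).trans (hleft h))
    have key : ∀ i, algebraMap R (Localization.Away (r i)) ((pinv g * h).ofConv a) = 0 := by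
      intro i
      have e2 := congrArg (Spec.map (CommRingCat.ofHom (algebraMap R (Localization.Away (r i)))) ≫ ·) e'
      simp only [hloc] at e2
      set gi := post (A := A) (L i) g
      set hi' := post (A := A) (L i) h
      have e3 : Spec.map (CommRingCat.ofHom hi'.ofConv.toRingHom) ≫ φ =
          PS.tuplePt (B := CommRingCat.of (Localization.Away (r i))) (algebraMap k _)
            (fun j => gi.ofConv (c j)) i (hLu i) := e2.symm.trans (heval _ _ i (hLu i))
      have hhu : IsUnit (hi'.ofConv (c i)) := by
        refine PS.isUnit_of_basicOpen_eq_top (eq_top_iff.2 fun x _ => ?_)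
        have hp := congrArg (fun f => f ⁻¹ᵁ Proj.basicOpen (polyGrading n k) (MvPolynomial.X i)) e3
        have hp' : ∀ (z : Spec (CommRingCat.of (Localization.Away (r i)))),
            φ (Spec.map (CommRingCat.ofHom hi'.ofConv.toRingHom) z) ∈
              Proj.basicOpen (polyGrading n k) (MvPolynomial.X i) := fun z =>
            hp.ge (x := z) ((PS.tuplePt_preimage_X _ _ i (hLu i) i).ge ((PS.basicOpen_eq_top_of_isUnit (hLu i)).ge trivial))
        have hpre : φ ⁻¹ᵁ Proj.basicOpen (polyGrading n k) (MvPolynomial.X i) ≤ PrimeSpectrum.basicOpen (c i) := by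
          intro y hy
          obtain ⟨j, z, rfl⟩ : ∃ j, ∃ z, 𝒰.f j z = y := ⟨_, (𝒰.covers y)⟩
          have hz : z ∈ (𝒰.f j ≫ φ) ⁻¹ᵁ Proj.basicOpen (polyGrading n k) (MvPolynomial.X i) := hy
          rw [hφ j, PS.tuplePt_preimage_X] at hz
          exact hz
        exact hpre (hp' x)
      obtain ⟨u, hu'⟩ := PS.exists_smul_of_tuplePt_eq _ _ i i (hLu i) hhu
        (e3.symm.trans (heval _ _ i hhu))
      have := ((hI _ _).2 ((smul_iff_stab b v gi hi').1 ⟨u, hu'⟩)) a ha
      rw [show pinv gi = post (A := A) (L i) (pinv g) from rfl, ← map_mul] at this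
      exact this
    rw [← Ideal.mem_bot]
    refine Submodule.mem_of_span_eq_top_of_smul_pow_mem ⊥ _ hr _ ?_
    rintro ⟨_, i, rfl⟩
    obtain ⟨⟨_, m, rfl⟩, hm⟩ := (IsLocalization.map_eq_zero_iff (Submonoid.powers (r i)) _ _).1 (key i)
    exact ⟨m, (Submodule.mem_bot _).2 hm⟩
  · intro hs
    obtain ⟨u, hu'⟩ := (smul_iff_stab b v g h).2 ((hI R _).1 hs)
    have hunit : IsUnit u := by
      have h1 : Ideal.span (Set.range fun i => h.ofConv (c i)) = ⊤ := by
        have := congrArg (Ideal.map h.ofConv.toRingHom) (span_coords (A := A) b v hv)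
        rw [Ideal.map_span, Ideal.map_top, ← Set.range_comp] at this
        exact this
      rw [← Ideal.span_singleton_eq_top, eq_top_iff, ← h1, Ideal.span_le]
      rintro _ ⟨i, rfl⟩
      exact Ideal.mem_span_singleton.2 ⟨g.ofConv (c i), hu' i⟩
    refine Over.OverMorphism.ext ((hleft g).trans (Eq.trans ?_ (hleft h).symm))
    refine Scheme.Cover.hom_ext (Scheme.affineOpenCoverOfSpanRangeEqTop (R := CommRingCat.of R) r hr).openCover
      _ _ fun i => ?_
    show Spec.map (CommRingCat.ofHom (algebraMap R (Localization.Away (r i)))) ≫ _ =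
      Spec.map (CommRingCat.ofHom (algebraMap R (Localization.Away (r i)))) ≫ _
    rw [hloc, hloc]
    have hh : ∀ j, (post (A := A) (L i) h).ofConv (c j) =
        L i u * (post (A := A) (L i) g).ofConv (c j) := fun j => by
      show L i (h.ofConv (c j)) = L i u * L i (g.ofConv (c j))
      rw [← map_mul, ← hu' j]
    have hhi : IsUnit ((post (A := A) (L i) h).ofConv (c i)) := by
      rw [hh]; exact (hunit.map (L i)).mul (hLu i)
    rw [heval _ _ i (hLu i), heval _ _ i hhi]
    refine Eq.trans ?_ (PS.tuplePt_congr _ hh i i hhi (by rw [← hh]; exact hhi)).symm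
    exact (PS.tuplePt_smul _ _ _ i i _ (hLu i)).symm

end Groth.L08.HomSpace
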